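import Cfsg.Agent.H381.Car.Wp
import Cfsg.Agent.Lib.Cores
import Cfsg.Agent.OddOrderLocal.CNBasic
import Cfsg.Agent.SignalizersComponents.CoprimeBasic
import Cfsg.Agent.H696.GmnThree
import Cfsg.Agent.KFacts.RgdFiltChev
import Cfsg.Agent.H130.TorEmb
import Cfsg.Agent.H985.VZ.Defs
import Cfsg.Agent.FastGrp
import Cfsg.Agent.Prune
set_option linter.all false

section
prune_inst 0x7f00000000000000000000000000000000000000000000000000000000000000000000000000000000000000000000000000000000000000000000000000000000000000000000000000000000000000003fffffffffffffffffffffffffffbeffbdffffffff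

-- part: H381/Car/RadTow
section
set_option linter.all false
open scoped Cfsg.Agent.FastGrp

-- part: H381/Car/Rad
section
/-!
# Carter subgroups and radical subgroups (S3852, helper381)

* `exists_two_odd` : a finite nilpotent subgroup is `P × O`, `P` a `2`-group, `O` of odd order;
* `RadG p S` : for every `p`-subgroup `Q ≠ 1` of `S` containing `O_p(N_S(Q))` and every `O ≤ N_G(Q)` of odd order with
  `O ∩ S ≤ Q` there is a `2`-subgroup `E ≤ N_S(Q)` with `[O, E] ≤ Q` and `C_Q(E) = 1`;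
* `not_dvd_of_rad` : then `p ∤ |K ∩ S|` as soon as `K ∩ S` is a `{2, p}`-group.
-/

set_option autoImplicit false
set_option linter.unusedSectionVars false
set_option linter.style.haveILetI false

namespace Cfsg.Agent.H381.Car

open Subgroup Pointwise
open Cfsg.Agent.Solvable.Carter Cfsg.Agent.H18.Carter

universe u

section TwoOdd

variable {G : Type u} [Group G] [Finite G]

/-- `K = P × O` -/
theorem exists_two_odd {K : Subgroup G} (hK : Group.IsNilpotent K) :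
    ∃ P O : Subgroup G, P ≤ K ∧ O ≤ K ∧ P ⊔ O = K ∧ IsPGroup 2 P ∧ Odd (Nat.card O) ∧
      (∀ x ∈ P, ∀ y ∈ O, x * y = y * x) ∧ Odd (P.relIndex K) := by
  classical
  haveI : Fact (Nat.Prime 2) := ⟨Nat.prime_two⟩
  haveI := hK
  obtain ⟨R⟩ : Nonempty (Sylow 2 K) := inferInstance
  have hRn : (R : Subgroup K).Normal := by
    have h := ((Group.isNilpotent_of_finite_tfae (G := K)).out 0 3).mp hK
    exact h 2 inferInstance R
  have hidx : Odd (R : Subgroup K).index := by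
    rw [Nat.odd_iff, ← Nat.not_even_iff, even_iff_two_dvd]
    exact R.not_dvd_index
  have hco : (Nat.card (R : Subgroup K)).Coprime (R : Subgroup K).index := by
    obtain ⟨n, hn⟩ := IsPGroup.iff_card.1 R.2
    rw [hn]
    exact Nat.Coprime.pow_left n (Nat.coprime_two_left.2 hidx)
  obtain ⟨H, hH⟩ := exists_right_complement'_of_coprime hco
  have hHc : Nat.card H = (R : Subgroup K).index := hH.symm.index_eq_card.symm
  have hHo : Odd (Nat.card H) := by rw [hHc]; exact hidx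
  refine ⟨(R : Subgroup K).map K.subtype, H.map K.subtype, map_subtype_le _, map_subtype_le _, ?_, ?_, ?_, ?_, ?_⟩
  · rw [← Subgroup.map_sup, hH.sup_eq_top, ← MonoidHom.range_eq_map, range_subtype]
  · exact R.2.map _
  · rw [card_map_of_injective K.subtype_injective]
    exact hHo
  · rintro _ ⟨x, hx, rfl⟩ _ ⟨y, hy, rfl⟩
    obtain ⟨n, hn⟩ := (IsPGroup.iff_orderOf.1 R.2) ⟨x, hx⟩
    rw [orderOf_mk] at hn
    have h1 : Odd (orderOf y) := by
      have h2 : orderOf y ∣ Nat.card H := by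
        rw [← orderOf_mk y hy]
        exact orderOf_dvd_natCard _
      exact hHo.of_dvd_nat h2
    have h2 : (orderOf x).Coprime (orderOf y) := by
      rw [hn]
      exact Nat.Coprime.pow_left n (Nat.coprime_two_left.2 h1)
    exact congrArg Subtype.val (Cfsg.Agent.OddOrderLocal.CNBasic.commute_of_coprime_orderOf (C := K) h2)
  · have h1 : ((R : Subgroup K).map K.subtype).relIndex K = (R : Subgroup K).index := by
      rw [relIndex]
      congr 1
      ext y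
      rw [mem_subgroupOf]
      constructor
      · rintro ⟨z, hz, hzy⟩
        have : z = y := Subtype.ext hzy
        exact this ▸ hz
      · intro hy; exact ⟨y, hy, rfl⟩
    rw [h1]
    exact hidx

end TwoOdd

section Rel

variable {G : Type u} [Group G] [Finite G]

/-- `|KQ : K| |K ∩ Q| = |Q|` -/
theorem relIndex_sup_mul {K Q : Subgroup G} (h : K ≤ normalizer (Q : Set G)) :
    K.relIndex (K ⊔ Q) * Nat.card ↥(K ⊓ Q) = Nat.card Q := by
  set M : Subgroup G := normalizer (Q : Set G) with hM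
  have hQM : Q ≤ M := le_normalizer
  haveI : (Q.subgroupOf M).Normal := normal_subgroupOf_of_le_normalizer le_rfl
  have h1 : Q.relIndex (K ⊔ Q) = Q.relIndex K := by
    rw [← relIndex_subgroupOf (H := Q) (sup_le h hQM), ← relIndex_subgroupOf (H := Q) h, subgroupOf_sup h hQM,
      relIndex_sup_right]
  have h2 : Nat.card Q * Q.relIndex (K ⊔ Q) = Nat.card ↥(K ⊔ Q) := by
    rw [← relIndex_bot_left, ← relIndex_bot_left, relIndex_mul_relIndex ⊥ Q (K ⊔ Q) bot_le le_sup_right]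
  have h3 : Nat.card K * K.relIndex (K ⊔ Q) = Nat.card ↥(K ⊔ Q) := by
    rw [← relIndex_bot_left, ← relIndex_bot_left, relIndex_mul_relIndex ⊥ K (K ⊔ Q) bot_le le_sup_left]
  have h4 : Nat.card ↥(K ⊓ Q) * Q.relIndex K = Nat.card K := by
    have h5 : Q.relIndex K = (K ⊓ Q).relIndex K := by rw [← inf_relIndex_right Q K, inf_comm]
    rw [h5, ← relIndex_bot_left, ← relIndex_bot_left, relIndex_mul_relIndex ⊥ (K ⊓ Q) K bot_le inf_le_left]
  have h5 : Nat.card K ≠ 0 := Nat.card_pos.ne'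
  apply mul_left_cancel₀ h5
  rw [← mul_assoc, h3, ← h2, h1, mul_assoc, mul_comm (Q.relIndex K), h4, mul_comm]

end Rel

section Cent

variable {G : Type u} [Group G]

/-- the elements of `N(Q)` centralising `O` modulo `Q` -/
def centMod (Q O : Subgroup G) : Subgroup G where
  carrier := {x | x ∈ normalizer (Q : Set G) ∧ ∀ o ∈ O, x * o * x⁻¹ * o⁻¹ ∈ Q}
  one_mem' := ⟨one_mem _, fun o _ => by simp⟩
  mul_mem' := by
    rintro x y ⟨hx, hx'⟩ ⟨hy, hy'⟩
    refine ⟨mul_mem hx hy, fun o ho => ?_⟩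
    have h1 := (mem_normalizer_iff.1 hx _).1 (hy' o ho)
    have e : x * y * o * (x * y)⁻¹ * o⁻¹ = (x * (y * o * y⁻¹ * o⁻¹) * x⁻¹) * (x * o * x⁻¹ * o⁻¹) := by group
    rw [e]
    exact mul_mem h1 (hx' o ho)
  inv_mem' := by
    rintro x ⟨hx, hx'⟩
    refine ⟨inv_mem hx, fun o ho => ?_⟩
    have h1 := (mem_normalizer_iff.1 (inv_mem hx) _).1 (inv_mem (hx' o ho))
    have e : x⁻¹ * o * x⁻¹⁻¹ * o⁻¹ = x⁻¹ * (x * o * x⁻¹ * o⁻¹)⁻¹ * x⁻¹⁻¹ := by group
    rw [e]
    exact h1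

theorem mem_centMod {Q O : Subgroup G} {x : G} :
    x ∈ centMod Q O ↔ x ∈ normalizer (Q : Set G) ∧ ∀ o ∈ O, x * o * x⁻¹ * o⁻¹ ∈ Q := Iff.rfl

end Cent

variable {G : Type u} [Group G] [Finite G]

/-- the `E`-property of radical `p`-subgroups -/
def RadG (p : ℕ) (S : Subgroup G) : Prop :=
  ∀ Q : Subgroup G, Q ≤ S → IsPGroup p Q → Q ≠ ⊥ →
    (∀ R : Subgroup G, R ≤ S → IsPGroup p R → R ≤ normalizer (Q : Set G) →
      S ⊓ normalizer (Q : Set G) ≤ normalizer (R : Set G) → R ≤ Q) →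
    ∀ O : Subgroup G, O ≤ normalizer (Q : Set G) → Odd (Nat.card O) → O ⊓ S ≤ Q →
      ∃ E : Subgroup G, E ≤ S ∧ E ≤ normalizer (Q : Set G) ∧ IsPGroup 2 E ∧
        (∀ o ∈ O, ∀ x ∈ E, x * o * x⁻¹ * o⁻¹ ∈ Q) ∧ ∀ z ∈ Q, (∀ x ∈ E, x * z = z * x) → z = 1

variable {S : Subgroup G} [S.Normal]

/-- a `K`-invariant `p`-subgroup of `S` which is maximal is radical -/
theorem radical_of_maximal {p : ℕ} [Fact p.Prime] {K Q : Subgroup G} (hQS : Q ≤ S) (hQp : IsPGroup p Q)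
    (hKQ : K ≤ normalizer (Q : Set G))
    (hmax : ∀ R : Subgroup G, R ≤ S → IsPGroup p R → K ≤ normalizer (R : Set G) → Q ≤ R → R ≤ Q) {R : Subgroup G}
    (hRS : R ≤ S) (hRp : IsPGroup p R) (hRQ : R ≤ normalizer (Q : Set G))
    (hn : S ⊓ normalizer (Q : Set G) ≤ normalizer (R : Set G)) : R ≤ Q := by
  set M : Subgroup G := normalizer (Q : Set G) with hM
  set H : Subgroup M := S.subgroupOf M with hH
  haveI hHn : H.Normal := inferInstance
  set C : Subgroup H := Cfsg.pCore p H with hC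
  haveI hCc : C.Characteristic := Cfsg.Agent.Lib.Cores.pCore_characteristic (G := H) p
  have hCn : (C.map H.subtype).Normal := ConjAct.normal_of_characteristic_of_normal
  set R' : Subgroup G := (C.map H.subtype).map M.subtype with hR'
  have hR'p : IsPGroup p R' := ((Cfsg.Agent.Lib.Cores.pCore_isPGroup (G := H) p).map _).map _
  have hR'S : R' ≤ S := by
    rintro _ ⟨_, ⟨y, hy, rfl⟩, rfl⟩
    exact mem_subgroupOf.1 y.2
  have hR'M : R' ≤ M := map_subtype_le _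
  have hMR' : M ≤ normalizer (R' : Set G) := by
    intro m hm
    rw [mem_normalizer_iff]
    intro x
    constructor
    · rintro ⟨y, hy, rfl⟩
      exact ⟨(⟨m, hm⟩ * y * ⟨m, hm⟩⁻¹ :), hCn.conj_mem y hy _, by simp⟩
    · rintro ⟨y, hy, hyx⟩
      refine ⟨(⟨m, hm⟩⁻¹ * y * ⟨m, hm⟩ :), ?_, ?_⟩
      · have := hCn.conj_mem y hy ⟨m, hm⟩⁻¹
        rwa [inv_inv] at this
      · simp only [coe_subtype, coe_mul, coe_inv] at hyx ⊢
        rw [hyx]; group
  have h1 : Q ⊔ R' ≤ Q := by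
    refine hmax _ (sup_le hQS hR'S) ?_ ?_ le_sup_left
    · rw [sup_comm]
      exact hR'p.to_sup_of_normal_right' hQp hR'M
    · exact le_normalizer_sup hKQ (hKQ.trans hMR')
  refine le_trans ?_ (le_sup_right.trans h1)
  -- `R ≤ R'`
  have h2 : ((R.subgroupOf M).subgroupOf H).Normal := by
    refine ⟨fun y hy g => ?_⟩
    rw [mem_subgroupOf, mem_subgroupOf] at hy ⊢
    have hg : ((g : M) : G) ∈ S ⊓ normalizer (Q : Set G) := ⟨mem_subgroupOf.1 g.2, (g : M).2⟩
    exact (mem_normalizer_iff.1 (hn hg) _).1 hy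
  have h3 : IsPGroup p ((R.subgroupOf M).subgroupOf H) :=
    (hRp.comap_of_injective M.subtype M.subtype_injective).comap_of_injective H.subtype H.subtype_injective
  have h4 := Cfsg.Agent.Lib.Cores.le_pCore h2 h3
  intro x hx
  refine ⟨⟨x, hRQ hx⟩, ⟨⟨⟨x, hRQ hx⟩, mem_subgroupOf.2 (hRS hx)⟩, h4 ?_, rfl⟩, rfl⟩
  exact hx

/-- **The radical subgroup argument.** -/
theorem not_dvd_of_rad {p : ℕ} [hp : Fact p.Prime] (hp2 : p ≠ 2) (hR : RadG p S) {K : Subgroup G}
    (hK : IsCarter K) (hd : ∀ l : ℕ, l.Prime → l ∣ Nat.card ↥(K ⊓ S) → l = 2 ∨ l = p) :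
    ¬ p ∣ Nat.card ↥(K ⊓ S) := by
  classical
  intro hpd
  obtain ⟨P, O, hPK, hOK, hPO, hP2, hOo, hcomm, hPidx⟩ := exists_two_odd hK.1
  -- the maximal `K`-invariant `p`-subgroup
  let 𝒮 : Set (Subgroup G) := {Q | Q ≤ S ∧ IsPGroup p Q ∧ K ≤ normalizer (Q : Set G)}
  have hbot : (⊥ : Subgroup G) ∈ 𝒮 := ⟨bot_le, IsPGroup.of_bot, le_normalizer_of_normal _ _⟩
  obtain ⟨Q, ⟨hQS, hQp, hKQ⟩, hmax⟩ := (Set.toFinite 𝒮).exists_maximal ⟨_, hbot⟩
  -- `O ∩ S ≤ Q`
  have hKO : K ≤ normalizer (O : Set G) := by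
    rw [← hPO]
    refine sup_le ?_ le_normalizer
    intro x hx
    rw [mem_normalizer_iff]
    intro y
    constructor
    · intro hy
      rw [hcomm x hx y hy, mul_inv_cancel_right]
      exact hy
    · intro hy
      have h1 := hcomm x hx _ hy
      have h2 : y = x * y * x⁻¹ := by
        have h3 : x * y = x * (x * y * x⁻¹) := by rw [h1]; group
        exact mul_left_cancel h3
      rw [h2]; exact hy
  have hOSp : IsPGroup p ↥(O ⊓ S) := by
    rw [IsPGroup.iff_card]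
    refine ⟨_, Nat.eq_prime_pow_of_unique_prime_dvd Nat.card_pos.ne' ?_⟩
    intro l hl hld
    rcases hd l hl (hld.trans (card_dvd_of_le (inf_le_inf_right S hOK))) with h | h
    · exfalso
      rw [h] at hld
      have h1 : 2 ∣ Nat.card O := hld.trans (card_dvd_of_le inf_le_left)
      exact (Nat.not_even_iff_odd.2 hOo) (even_iff_two_dvd.2 h1)
    · exact h
  have hOSQ : O ⊓ S ≤ Q := by
    have h1 : (O ⊓ S) ⊔ Q ∈ 𝒮 := by
      refine ⟨sup_le inf_le_right hQS, ?_, ?_⟩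
      · exact hOSp.to_sup_of_normal_right' hQp ((inf_le_left.trans hOK).trans hKQ)
      · exact le_normalizer_sup (le_normalizer_inf hKO (le_normalizer_of_normal _ _)) hKQ
    exact le_sup_left.trans (hmax h1 le_sup_right)
  -- an element of order `p`
  obtain ⟨z, hzS, hzK, hzo, hzc⟩ := exists_central (S := S) hK.1 hpd
  have hzO : z ∈ O := by
    rw [← hPO] at hzK
    have hPn : O ≤ normalizer (P : Set G) := by
      intro x hx
      rw [mem_normalizer_iff]
      intro y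
      constructor
      · intro hy
        rw [← hcomm y hy x hx, mul_inv_cancel_right]
        exact hy
      · intro hy
        have h1 := hcomm _ hy x hx
        have h2 : y = x * y * x⁻¹ := by
          have h3 : x * y = x * (x * y * x⁻¹) := by rw [← h1]; group
          exact mul_left_cancel h3
        rw [h2]; exact hy
    obtain ⟨a, ha, b, hb, rfl⟩ := mul_mem_of_norm hPn hzK
    have hab : Commute a b := hcomm a ha b hb
    obtain ⟨n, hn⟩ := (IsPGroup.iff_orderOf.1 hP2) ⟨a, ha⟩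
    rw [orderOf_mk] at hn
    have hbo : Odd (orderOf b) := by
      have h2 : orderOf b ∣ Nat.card O := by
        rw [← orderOf_mk b hb]
        exact orderOf_dvd_natCard _
      exact hOo.of_dvd_nat h2
    have hcop : (orderOf a).Coprime (orderOf b) := by
      rw [hn]
      exact Nat.Coprime.pow_left n (Nat.coprime_two_left.2 hbo)
    rw [hab.orderOf_mul_eq_mul_orderOf_of_coprime hcop] at hzo
    have h3 : orderOf a = 1 := by
      rcases (Nat.dvd_prime hp.out).1 (Dvd.intro _ hzo) with h | h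
      · exact h
      · exfalso
        rw [hn] at h
        have h4 : p ∣ 2 ^ n := by rw [h]
        have h5 := (Nat.prime_dvd_prime_iff_eq hp.out Nat.prime_two).1 (hp.out.dvd_of_dvd_pow h4)
        exact hp2 h5
    rw [orderOf_eq_one_iff] at h3
    rw [h3, one_mul]
    exact hb
  have hzQ : z ∈ Q := hOSQ ⟨hzO, hzS⟩
  have hz1 : z ≠ 1 := by
    rintro rfl
    rw [orderOf_one] at hzo
    exact hp.out.one_lt.ne hzo
  have hQb : Q ≠ ⊥ := by
    intro h
    rw [h, mem_bot] at hzQ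
    exact hz1 hzQ
  obtain ⟨E, hES, hEQ, hE2, hEO, hEz⟩ := hR Q hQS hQp hQb
    (fun R hRS hRp hRQ hn => radical_of_maximal hQS hQp hKQ
      (fun R h1 h2 h3 h4 => hmax (show R ∈ 𝒮 from ⟨h1, h2, h3⟩) h4) hRS hRp hRQ hn)
    O (hOK.trans hKQ) hOo hOSQ
  -- `K₂` is a Sylow `2`-subgroup of `C`
  set C : Subgroup G := centMod Q O with hC
  have hPC : P ≤ C := by
    intro x hx
    refine mem_centMod.2 ⟨hKQ (hPK hx), fun o ho => ?_⟩
    rw [hcomm x hx o ho, mul_inv_cancel_right, mul_inv_cancel]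
    exact one_mem _
  have hEC : E ≤ C := fun x hx => mem_centMod.2 ⟨hEQ hx, fun o ho => hEO o ho x hx⟩
  have hKQs : Group.IsSolvable ↥(K ⊔ Q) := by
    have hKs : Group.IsSolvable K := by
      have := hK.1
      infer_instance
    have hQs : Group.IsSolvable Q := by
      have : Group.IsNilpotent Q := hQp.isNilpotent
      infer_instance
    rw [sup_comm]
    exact Cfsg.Agent.SignalizersComponents.CoprimeBasic.isSolvable_sup hKQ hQs hKs
  have hnKQ : normalizer ((K ⊔ Q : Subgroup G) : Set G) ≤ K ⊔ Q :=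
    norm_le_of_carter (CC.of_solvable hKQs) hK le_sup_left
  have hPKQ : Odd (P.relIndex (K ⊔ Q)) := by
    rw [← relIndex_mul_relIndex P K (K ⊔ Q) hPK le_sup_left]
    refine hPidx.mul ?_
    have h1 := relIndex_sup_mul hKQ
    obtain ⟨n, hn⟩ := IsPGroup.iff_card.1 hQp
    rw [hn] at h1
    refine Odd.of_dvd_nat ?_ (Dvd.intro _ h1)
    exact (hp.out.odd_of_ne_two hp2).pow
  have hsyl : ∀ R : Subgroup G, R ≤ C → IsPGroup 2 R → P ≤ R → R ≤ P := by
    intro R hRC hR2 hPR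
    by_contra hne
    have hnil : Group.IsNilpotent R := hR2.isNilpotent
    have h1 : P.subgroupOf R < ⊤ := by
      rw [lt_top_iff_ne_top]
      intro h
      exact hne (subgroupOf_eq_top.1 h)
    have h2 := Group.normalizerCondition_of_isNilpotent (G := R) _ h1
    rw [← subgroupOf_normalizer_eq hPR] at h2
    obtain ⟨⟨x, hxR⟩, hx1, hx2⟩ := SetLike.exists_of_lt h2
    rw [mem_subgroupOf] at hx1 hx2
    simp only at hx1 hx2
    have hxC := mem_centMod.1 (hRC hxR)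
    -- `x` normalises `K Q`
    have h3 : x ∈ normalizer ((K ⊔ Q : Subgroup G) : Set G) := by
      have key : ∀ x : G, x ∈ C → x ∈ normalizer (P : Set G) → MulAut.conj x • (K ⊔ Q) ≤ K ⊔ Q := by
        intro x hxC hxP
        obtain ⟨h4, h5⟩ := mem_centMod.1 hxC
        rw [Subgroup.smul_sup, cj_eq_self_iff.2 h4]
        refine sup_le ?_ le_sup_right
        rw [← hPO, Subgroup.smul_sup, cj_eq_self_iff.2 hxP]
        refine sup_le (le_sup_left.trans le_sup_left) ?_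
        intro y hy
        rw [mem_cj] at hy
        have h6 := h5 _ hy
        have e : y = (x * (x⁻¹ * y * x) * x⁻¹ * (x⁻¹ * y * x)⁻¹) * (x⁻¹ * y * x) := by group
        rw [e]
        exact mul_mem (mem_sup_right h6) (mem_sup_left (mem_sup_right hy))
      rw [← cj_eq_self_iff]
      refine le_antisymm (key x (hRC hxR) hx1) ?_
      have h7 := key x⁻¹ (inv_mem (hRC hxR)) (inv_mem hx1)
      have h8 : MulAut.conj x • (MulAut.conj x⁻¹ • (K ⊔ Q)) ≤ MulAut.conj x • (K ⊔ Q) :=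
        Subgroup.pointwise_smul_le_pointwise_smul_iff.2 h7
      rwa [cj_cj, mul_inv_cancel, cj_one] at h8
    have h4 : x ∈ R ⊓ (K ⊔ Q) := ⟨hxR, hnKQ h3⟩
    have h5 : P ≤ R ⊓ (K ⊔ Q) := le_inf hPR (hPK.trans le_sup_left)
    have h6 : P.relIndex (R ⊓ (K ⊔ Q)) = 1 := by
      have h7 : P.relIndex (R ⊓ (K ⊔ Q)) ∣ P.relIndex (K ⊔ Q) := by
        rw [← relIndex_mul_relIndex P (R ⊓ (K ⊔ Q)) (K ⊔ Q) h5 inf_le_right]
        exact dvd_mul_right _ _
      have h8 : Odd (P.relIndex (R ⊓ (K ⊔ Q))) := hPKQ.of_dvd_nat h7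
      have h9 : IsPGroup 2 ↥(R ⊓ (K ⊔ Q)) := hR2.to_le inf_le_left
      obtain ⟨n, hn⟩ := IsPGroup.iff_card.1 h9
      have h10 : P.relIndex (R ⊓ (K ⊔ Q)) ∣ 2 ^ n := by
        rw [← hn]
        exact relIndex_dvd_card _ _
      obtain ⟨m, -, hm⟩ := (Nat.dvd_prime_pow Nat.prime_two).1 h10
      rw [hm] at h8 ⊢
      rcases Nat.eq_zero_or_pos m with h0 | h0
      · rw [h0, pow_zero]
      · exfalso
        exact (Nat.not_even_iff_odd.2 h8) (Nat.even_pow.2 ⟨even_two, h0.ne'⟩)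
    rw [relIndex_eq_one] at h6
    exact hx2 (h6 h4)
  -- a conjugate of `E` lies in `P`
  haveI : Fact (Nat.Prime 2) := ⟨Nat.prime_two⟩
  obtain ⟨R1, hR1⟩ := (hP2.comap_of_injective C.subtype C.subtype_injective : IsPGroup 2 (P.subgroupOf C)).exists_le_sylow
  obtain ⟨R2, hR2⟩ := (hE2.comap_of_injective C.subtype C.subtype_injective : IsPGroup 2 (E.subgroupOf C)).exists_le_sylow
  have hR1P : ((R1 : Subgroup C).map C.subtype) ≤ P := by
    refine hsyl _ (map_subtype_le _) (R1.2.map _) ?_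
    intro x hx
    exact ⟨⟨x, hPC hx⟩, hR1 (mem_subgroupOf.2 hx), rfl⟩
  obtain ⟨g, hg⟩ := MulAction.exists_smul_eq C R2 R1
  have hEP : ∀ x ∈ E, (g : G) * x * (g : G)⁻¹ ∈ P := by
    intro x hx
    have h1 : (⟨x, hEC hx⟩ : C) ∈ (R2 : Subgroup C) := hR2 (mem_subgroupOf.2 hx)
    have h2 : g * ⟨x, hEC hx⟩ * g⁻¹ ∈ (R1 : Subgroup C) := by
      rw [← hg, Sylow.coe_subgroup_smul]
      exact cj_mem h1
    exact hR1P ⟨_, h2, rfl⟩
  have hgQ := (mem_centMod.1 g.2).1
  have h1 : (g : G)⁻¹ * z * g ∈ Q := by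
    have := (mem_normalizer_iff.1 (inv_mem hgQ) z).1 hzQ
    rwa [inv_inv] at this
  have h2 := hEz _ h1 fun x hx => by
    have h3 := hcomm _ (hEP x hx) z hzO
    calc x * ((g : G)⁻¹ * z * g) = (g : G)⁻¹ * ((g : G) * x * (g : G)⁻¹ * z) * g := by group
      _ = (g : G)⁻¹ * (z * ((g : G) * x * (g : G)⁻¹)) * g := by rw [h3]
      _ = _ := by group
  apply hz1
  calc z = g * ((g : G)⁻¹ * z * g) * (g : G)⁻¹ := by group
    _ = 1 := by rw [h2]; group

/-- the `E`-property of a group `Y`, in terms of its automorphisms -/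
def RadY (p : ℕ) (Y : Type*) [Group Y] : Prop :=
  ∀ Q : Subgroup Y, IsPGroup p Q → Q ≠ ⊥ →
    (∀ R : Subgroup Y, IsPGroup p R → R ≤ normalizer (Q : Set Y) →
      normalizer (Q : Set Y) ≤ normalizer (R : Set Y) → R ≤ Q) →
    ∀ A : Subgroup (MulAut Y), Odd (Nat.card A) → (∀ a ∈ A, ∀ y, a y ∈ Q ↔ y ∈ Q) →
      (∀ y : Y, MulAut.conj y ∈ A → y ∈ Q) →
      ∃ E : Subgroup Y, E ≤ normalizer (Q : Set Y) ∧ IsPGroup 2 E ∧ (∀ a ∈ A, ∀ x ∈ E, x * (a x)⁻¹ ∈ Q) ∧
        ∀ z ∈ Q, (∀ x ∈ E, x * z = z * x) → z = 1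

section Trans

variable {Y : Type*} [Group Y] (e : S ≃* Y)

/-- `G → Aut Y` -/
noncomputable def psi : G →* MulAut Y where
  toFun g := (e.symm.trans (MulAut.conjNormal g : MulAut S)).trans e
  map_one' := by ext y; simp
  map_mul' a b := by ext y; simp [MulAut.mul_apply]

theorem psi_apply (g : G) (y : Y) : psi e g y = e (MulAut.conjNormal g (e.symm y)) := rfl

theorem coe_symm_psi (g : G) (y : Y) : ((e.symm (psi e g y) : S) : G) = g * (e.symm y : S) * g⁻¹ := by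
  rw [psi_apply, MulEquiv.symm_apply_apply, MulAut.conjNormal_apply]

theorem mem_of_psi_conj (hC : centralizer (S : Set G) = ⊥) {g : G} {y : Y} (h : psi e g = MulAut.conj y) :
    g = (e.symm y : S) := by
  have h1 : ((e.symm y : S) : G)⁻¹ * g ∈ centralizer (S : Set G) := by
    intro s hs
    have h2 := congrArg (fun a : MulAut Y => ((e.symm (a (e ⟨s, hs⟩)) : S) : G)) h
    simp only [coe_symm_psi, MulEquiv.symm_apply_apply, MulAut.conj_apply, map_mul, map_inv, Subgroup.coe_mul,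
      Subgroup.coe_inv] at h2
    have h3 : g * s = (e.symm y : S) * s * ((e.symm y : S) : G)⁻¹ * g := by rw [← h2]; group
    calc s * (((e.symm y : S) : G)⁻¹ * g) = ((e.symm y : S) : G)⁻¹ * ((e.symm y : S) * s * ((e.symm y : S) : G)⁻¹ * g) := by
          group
      _ = ((e.symm y : S) : G)⁻¹ * g * s := by rw [← h3]; group
  rw [hC, mem_bot, inv_mul_eq_one] at h1
  exact h1.symm

include e in
theorem radG_of {p : ℕ} (hC : centralizer (S : Set G) = ⊥) (h : RadY p Y) : RadG p S := by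
  intro Q hQS hQp hQb hrad O hOQ hOo hOS
  set f : Y →* G := S.subtype.comp e.symm.toMonoidHom with hf
  have hfi : Function.Injective f := S.subtype_injective.comp e.symm.injective
  have hfS : ∀ y, f y ∈ S := fun y => (e.symm y).2
  have hfe : ∀ s (hs : s ∈ S), f (e ⟨s, hs⟩) = s := fun s hs => by simp [hf]
  have hfpsi : ∀ g y, f (psi e g y) = g * f y * g⁻¹ := fun g y => coe_symm_psi e g y
  set Q' : Subgroup Y := Q.comap f with hQ'
  have hnor : ∀ (R : Subgroup G) (y : Y), R ≤ S → (y ∈ normalizer ((R.comap f : Subgroup Y) : Set Y) ↔ f y ∈ normalizer (R : Set G)) := by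
    intro R y hR
    rw [mem_normalizer_iff, mem_normalizer_iff]
    constructor
    · intro h1 g
      constructor
      · intro hg
        have h2 := (h1 (e ⟨g, hR hg⟩)).1 (by rw [mem_comap, hfe]; exact hg)
        rwa [mem_comap, map_mul, map_mul, map_inv, hfe] at h2
      · intro hg
        have h3 : g ∈ S := by
          have h4 := mul_mem (mul_mem (inv_mem (hfS y)) (hR hg)) (hfS y)
          have e1 : (f y)⁻¹ * (f y * g * (f y)⁻¹) * f y = g := by group
          rwa [e1] at h4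
        have h2 := (h1 (e ⟨g, h3⟩)).2 (by rw [mem_comap, map_mul, map_mul, map_inv, hfe]; exact hg)
        rwa [mem_comap, hfe] at h2
    · intro h1 x
      rw [mem_comap, mem_comap, map_mul, map_mul, map_inv]
      exact h1 (f x)
  have main := h Q' (hQp.comap_of_injective f hfi) ?_ ?_ (O.map (psi e)) ?_ ?_ ?_
  · obtain ⟨E, hE1, hE2, hE3, hE4⟩ := main
    refine ⟨E.map f, ?_, ?_, hE2.map _, ?_, ?_⟩
    · rintro _ ⟨y, -, rfl⟩
      exact hfS y
    · rintro _ ⟨y, hy, rfl⟩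
      exact (hnor Q y hQS).1 (hE1 hy)
    · rintro o ho _ ⟨x, hx, rfl⟩
      have h1 := hE3 (psi e o) ⟨o, ho, rfl⟩ x hx
      rw [hQ', mem_comap, map_mul, map_inv, hfpsi] at h1
      have e1 : f x * o * (f x)⁻¹ * o⁻¹ = f x * (o * f x * o⁻¹)⁻¹ := by group
      rw [e1]
      exact h1
    · intro z hz h1
      have h2 := hE4 (e ⟨z, hQS hz⟩) (by rw [hQ', mem_comap, hfe]; exact hz) fun x hx => by
        apply hfi
        rw [map_mul, map_mul, hfe]
        exact h1 _ ⟨x, hx, rfl⟩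
      have h3 := congrArg f h2
      rwa [hfe, map_one] at h3
  · intro h1
    apply hQb
    rw [eq_bot_iff]
    intro q hq
    have h2 : e ⟨q, hQS hq⟩ ∈ Q' := by rw [hQ', mem_comap, hfe]; exact hq
    rw [h1, mem_bot] at h2
    have h3 := congrArg f h2
    rw [hfe, map_one] at h3
    rw [mem_bot]; exact h3
  · intro R hRp hRQ hRn
    have hRS : R.map f ≤ S := by
      rintro _ ⟨y, -, rfl⟩
      exact hfS y
    have hcm : (R.map f).comap f = R := comap_map_eq_self_of_injective hfi R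
    have h1 := hrad (R.map f) hRS (hRp.map _) (by
      rintro _ ⟨y, hy, rfl⟩
      exact (hnor Q y hQS).1 (hRQ hy)) (by
      rintro g ⟨hgS, hgQ⟩
      have h2 : e ⟨g, hgS⟩ ∈ normalizer (Q' : Set Y) := by
        rw [hQ', hnor Q _ hQS, hfe]
        exact hgQ
      have h3 := hRn h2
      rw [← hcm, hnor _ _ hRS, hfe] at h3
      exact h3)
    intro y hy
    exact h1 ⟨y, hy, rfl⟩
  · refine hOo.of_dvd_nat ?_
    exact card_map_dvd _ _
  · rintro _ ⟨o, ho, rfl⟩ y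
    rw [hQ', mem_comap, mem_comap, hfpsi]
    exact (mem_normalizer_iff.1 (hOQ ho) _).symm
  · rintro y ⟨o, ho, hoy⟩
    have h1 := mem_of_psi_conj e hC hoy
    have h2 : f y = o := h1.symm
    rw [hQ', mem_comap, h2]
    exact hOS ⟨ho, h2 ▸ hfS y⟩

end Trans

end Cfsg.Agent.H381.Car
end

-- part: H381/Car/RadTow
section
/-!
# Parabolic subgroups in the union of a tower of root group data (S3852, helper381)

* `PJ_le_normalizer_VJL`, `isPGroup_VJL`, `eq_one_of_centralizer`;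
* `lang_VJ`, `lang_PJ` : Lang's theorem for the parabolic subgroups of `D.group k`;
* `radical_eq` : radical `p`-subgroups of a finite group with a filtered root group datum.
-/

set_option autoImplicit false
set_option linter.unusedSectionVars false

namespace Cfsg.Agent.H381.Car

open CoxeterSystem Subgroup Cfsg Cfsg.Lie Cfsg.Lie.ChevalleyDatum
open Cfsg.Agent.ChevalleyStructure Cfsg.Agent.ChevalleyStructure.Elts Cfsg.Agent.ChevalleyStructure.CoxeterGeom
  Cfsg.Agent.ChevalleyStructure.CoxeterGeomTypes Cfsg.Agent.ChevalleyStructure.NPerm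
open Cfsg.Agent.Tits.Roots Cfsg.Agent.Tits.Core Cfsg.Agent.Nodes Cfsg.Agent.Nodes.Reps Cfsg.Agent.Nodes.BNOf
  Cfsg.Agent.Nodes.RGDChev Cfsg.Agent.Nodes.Bruhat Cfsg.Agent.Nodes.StabComb Cfsg.Agent.Nodes.LeviDec
open Cfsg.Agent.KFacts.RgdField Cfsg.Agent.KFacts.RgdChevCoord
open Cfsg.Agent.BpExc Cfsg.Agent.BpExc.TorCent Cfsg.Agent.BpExc.TorChev Cfsg.Agent.BpExc.Tow
open Cfsg.Agent.BpExc.TowChev Cfsg.Agent.BpExc.Fr Cfsg.Agent.BpExc.LangFr

section Radical

variable {I W Y : Type*} [Fintype I] [DecidableEq I] [Group W] [Group Y] {M : CoxeterMatrix I}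
  {cs : CoxeterSystem M W} {A : I → I → ℤ} {h : IsCartan M A} {p : ℕ} {T : Subgroup Y} {n : I → Y}
  {X : (I → ℤ) → Subgroup Y}

/-- a `p`-subgroup `V ≥ Q` with `V ∩ N(Q) ≤ Q` is `Q` -/
theorem eq_of_inf_normalizer_le [Finite Y] [Fact p.Prime] {Q V : Subgroup Y} (hQV : Q ≤ V) (hV : IsPGroup p V)
    (h1 : V ⊓ normalizer (Q : Set Y) ≤ Q) : V = Q := by
  by_contra hne
  have hnil : Group.IsNilpotent V := hV.isNilpotent
  have h2 : Q.subgroupOf V < ⊤ := by
    rw [lt_top_iff_ne_top]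
    intro h3
    exact hne (le_antisymm (subgroupOf_eq_top.1 h3) hQV)
  have h3 := Group.normalizerCondition_of_isNilpotent (G := V) _ h2
  rw [← subgroupOf_normalizer_eq hQV] at h3
  obtain ⟨⟨x, hxV⟩, hx1, hx2⟩ := SetLike.exists_of_lt h3
  rw [mem_subgroupOf] at hx1 hx2
  exact hx2 (h1 ⟨hxV, hx1⟩)

/-- **Radical subgroups are the unipotent radicals.** -/
theorem radical_eq [Finite W] [Finite Y] [Fact p.Prime] {R : RGD cs h p T n X}
    {F : (I → ℤ) → ℝ → Subgroup Y} (hF : KFacts.RgdBorelTits.Filt R F) (hG : Nodes.RGDLib.G1 cs h X = ⊤) {Q : Subgroup Y}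
    (hQ : IsPGroup p Q) (hQ1 : Q ≠ ⊥)
    (hrad : ∀ R : Subgroup Y, IsPGroup p R → R ≤ normalizer (Q : Set Y) →
      normalizer (Q : Set Y) ≤ normalizer (R : Set Y) → R ≤ Q) :
    ∃ (g : Y) (J : Set I), J ≠ Set.univ ∧ Q = cj g (VJ cs h X J) ∧ normalizer (Q : Set Y) = cj g (PJ cs h T X J) := by
  obtain ⟨g, J, hJ, h1, h2⟩ := KFacts.RgdFilt.borel_tits_of_filt hF hG hQ hQ1
  have hV : IsPGroup p (cj g (VJ cs h X J)) := by
    unfold cj
    exact (KFacts.RgdCharP.isPGroup_VJ R J).map _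
  have h3 : cj g (PJ cs h T X J) ≤ normalizer ((cj g (VJ cs h X J) : Subgroup Y) : Set Y) := by
    rw [Nodes.NormX.normalizer_cj]
    exact cj_mono g (PJ_le_normalizer_VJ R J)
  have h4 : cj g (VJ cs h X J) = Q := by
    refine eq_of_inf_normalizer_le h1 hV ?_
    refine hrad _ (hV.to_le inf_le_left) inf_le_right ?_
    exact le_normalizer_inf (h2.trans h3) le_normalizer
  refine ⟨g, J, hJ, h4.symm, le_antisymm h2 ?_⟩
  rwa [h4] at h3

end Radical

section Lim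

variable {I W Y : Type*} [Fintype I] [DecidableEq I] [Group W] [Group Y] {M : CoxeterMatrix I}
  {cs : CoxeterSystem M W} {A : I → I → ℤ} {h : IsCartan M A} {p : ℕ}
variable {J' : Type*} [Preorder J'] {T : J' → Subgroup Y} {n : I → Y} {X : J' → (I → ℤ) → Subgroup Y}
  (H : Tow cs h p T n X)

theorem PJL_eq (J : Set I) : PJ cs h (TL T) (XL X) J = ⨆ j, PJ cs h (T j) (X j) J := by
  unfold PJ LJ VJ TL
  rw [Sup_eq, Sup_eq, iSup_sup_eq, iSup_sup_eq]

include H

theorem mem_PJL {J : Set I} {y : Y} : y ∈ PJ cs h (TL T) (XL X) J ↔ ∃ j, y ∈ PJ cs h (T j) (X j) J := by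
  rw [PJL_eq]
  exact H.mem_iSup fun a b hab => sup_le_sup (sup_le_sup (H.monoT hab) (H.mono_Sup _ hab)) (H.mono_Sup _ hab)

theorem PJL_conj_mem {J : Set I} {y v : Y} (hy : y ∈ PJ cs h (TL T) (XL X) J) (hv : v ∈ VJ cs h (XL X) J) :
    y * v * y⁻¹ ∈ VJ cs h (XL X) J := by
  obtain ⟨j1, h1⟩ := (mem_PJL H).1 hy
  obtain ⟨j2, h2⟩ := H.mem_Sup.1 hv
  obtain ⟨j, a, b⟩ := H.dir j1 j2
  have h3 : y ∈ PJ cs h (T j) (X j) J :=
    (sup_le_sup (sup_le_sup (H.monoT a) (H.mono_Sup _ a)) (H.mono_Sup _ a) :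
      PJ cs h (T j1) (X j1) J ≤ PJ cs h (T j) (X j) J) h1
  have h4 := PJ_le_normalizer_VJ (H.rgd j) J h3
  exact Sup_le_SupL j _ ((mem_normalizer_iff.1 h4 v).1 (H.mono_Sup _ b h2))

theorem isPGroup_VJL [Finite W] (J : Set I) : IsPGroup p (VJ cs h (XL X) J) := by
  rintro ⟨v, hv⟩
  obtain ⟨j, hj⟩ := H.mem_Sup.1 hv
  obtain ⟨m, hm⟩ := KFacts.RgdCharP.isPGroup_VJ (H.rgd j) J ⟨v, hj⟩
  have h1 : v ^ p ^ m = 1 := by
    have := congrArg Subtype.val hm
    simpa using this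
  exact ⟨m, Subtype.ext (by simpa using h1)⟩

/-- the torus elements `S` have no common fixed points in `U` -/
theorem eq_one_of_centralizerL [Finite W] {S : Set Y} {j0 : J'} (hS : S ⊆ T j0)
    (hX : ∀ a, IsRoot cs h a → 0 ≤ a → ∀ u ∈ XL X a, u ∈ centralizer S → u = 1) {z : Y}
    (hz : z ∈ RGD.Sup (XL X) (RGD.Pos cs h)) (hzS : z ∈ centralizer S) : z = 1 := by
  obtain ⟨j1, h1⟩ := H.mem_Sup.1 hz
  obtain ⟨j, a, b⟩ := H.dir j0 j1
  have h2 : z ∈ RGD.Sup (X j) (RGD.Pos cs h) ⊓ centralizer S := ⟨H.mono_Sup _ b h1, hzS⟩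
  rw [Cfsg.Agent.Nodes.NormalForm.centralizer_U (H.rgd j) (hS.trans (H.monoT a))] at h2
  have h3 : RGD.Sup (fun x => X j x ⊓ centralizer S) (RGD.Pos cs h) ≤ ⊥ := by
    refine RGD.Sup_le fun x hx => ?_
    rintro u ⟨hu, huS⟩
    rw [mem_bot]
    exact hX x hx.1 hx.2 u (le_XL j x hu) huS
  exact mem_bot.1 (h3 h2)

end Lim

section Lang

universe u v

variable {D : ChevalleyDatum} {l : ℕ} {M : CoxeterMatrix (Fin l)} (hp : IsType D l M) {k : Type u} [Field k]
  {W : Type v} [Group W] (cs : CoxeterSystem M W) {r : ℕ} [Fact r.Prime] [CharP k r] [IsAlgClosed k] (hk : LocFin k)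

include hp cs hk in
theorem lang_VJ {e : ℕ} (he : 0 < e) {σ : MulAut ↥(D.group k)}
    (hσ : IsFrob r e σ) (F : Fr cs hp.isCartan (TT D k) (XX D l k) σ (AddEquiv.refl _)) {J : Set (Fin l)}
    {m : ↥(D.group k)} (hm : m ∈ VJ cs hp.isCartan (XX D l k) J) :
    ∃ y ∈ VJ cs hp.isCartan (XX D l k) J, m = y⁻¹ * σ y :=
  lang_fr hp cs he hσ F (S := NotJ cs hp.isCartan J) (fun _ ha => ha.1) (fun _ ha => ha) hm

theorem PJ_eq (J : Set (Fin l)) : PJ cs hp.isCartan (TT D k) (XX D l k) J =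
    TT D k ⊔ RGD.Sup (XX D l k) (RootsJ cs hp.isCartan J ∪ NotJ cs hp.isCartan J) := by
  apply le_antisymm
  · refine sup_le (sup_le le_sup_left ?_) ?_
    · exact (RGD.Sup_mono Set.subset_union_left).trans le_sup_right
    · exact (RGD.Sup_mono Set.subset_union_right).trans le_sup_right
  · refine sup_le (le_sup_left.trans le_sup_left) (RGD.Sup_le fun a ha => ?_)
    rcases ha with ha | ha
    · exact (X_le_LJ ha).trans le_sup_left
    · exact (RGD.le_Sup ha).trans le_sup_right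

include hp cs hk in
theorem lang_PJ (hZ : Subgroup.center ↥(D.group k) = ⊥) {e : ℕ} (he : 0 < e) {σ : MulAut ↥(D.group k)}
    (hσ : IsFrob r e σ) (F : Fr cs hp.isCartan (TT D k) (XX D l k) σ (AddEquiv.refl _)) {J : Set (Fin l)}
    {m : ↥(D.group k)} (hm : m ∈ PJ cs hp.isCartan (TT D k) (XX D l k) J) :
    ∃ y ∈ PJ cs hp.isCartan (TT D k) (XX D l k) J, m = y⁻¹ * σ y := by
  rw [PJ_eq hp cs] at hm ⊢
  set S := RootsJ cs hp.isCartan J ∪ NotJ cs hp.isCartan J with hS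
  have hSr : ∀ a ∈ S, IsRoot cs hp.isCartan a := by
    rintro a (ha | ha)
    · exact ha.1
    · exact ha.1
  have hTn : TT D k ≤ normalizer (RGD.Sup (XX D l k) S : Set ↥(D.group k)) := by
    have h1 := (tow hp cs hk r (k := k)).T_le_normalizer hSr
    rwa [TL_eq hp hk, XL_eq hp hk] at h1
  obtain ⟨t, ht, x, hx, rfl⟩ := Cfsg.Agent.H18.Carter.mul_mem_of_norm' hTn hm
  have hx' : t * x * t⁻¹ ∈ RGD.Sup (XX D l k) S := (mem_normalizer_iff.1 (hTn ht) x).1 hx
  obtain ⟨u, hu, hut⟩ := H696.GmnToral.torus_lang hp cs hk hZ he hσ F ht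
  have hx2 : u * (t * x * t⁻¹) * u⁻¹ ∈ RGD.Sup (XX D l k) S := (mem_normalizer_iff.1 (hTn hu) _).1 hx'
  obtain ⟨z, hz, hzx⟩ := lang_fr hp cs he hσ F (S := S) hSr (fun _ ha => ha) hx2
  refine ⟨z * u, mul_mem (mem_sup_right hz) (mem_sup_left hu), ?_⟩
  rw [map_mul]
  calc t * x = u⁻¹ * (u * (t * x * t⁻¹) * u⁻¹) * (u * t) := by group
    _ = u⁻¹ * (z⁻¹ * σ z) * (u * t) := by rw [← hzx]
    _ = u⁻¹ * (z⁻¹ * σ z) * (u * (u⁻¹ * σ u)) := by rw [← hut]
    _ = (z * u)⁻¹ * (σ z * σ u) := by group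

end Lang

end Cfsg.Agent.H381.Car
end

private theorem dce_8395806daf2d : _root_.True := by
  try have : _root_.True := by simp only [_root_.Cfsg.Agent.H381.Car.psi.congr_simp]
  exact _root_.True.intro
end

-- part: H798/OZ/Ell
section
set_option linter.all false
open scoped Cfsg.Agent.FastGrp

-- part: H798/OZ/Reg
section
/-!
# Regular elements of the torus in parabolic subgroups (helper798, S4842)

* `exists_of_conj` : `t ∈ T` regular, `y t y⁻¹ ∈ P_K`: `y ∈ P_K k` with `k` a representative of an element of `W`;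
* `exists_of_conjL`, `mem_WJ_of_repL`, ... : the same in the limit.
-/

set_option autoImplicit false
set_option linter.unusedSectionVars false

namespace Cfsg.Agent.H798.OZ

open CoxeterSystem Subgroup Cfsg.Agent.ChevalleyStructure.CoxeterGeom Cfsg.Agent.Tits.Roots Cfsg.Agent.Tits.Core
  Cfsg.Agent.Tits.Exchange Cfsg.Agent.Nodes.Reps Cfsg.Agent.Nodes.BNOf Cfsg.Agent.Nodes.StabComb
  Cfsg.Agent.Nodes.Bruhat Cfsg.Agent.Nodes.OppDec Cfsg.Agent.Nodes.LeviDec Cfsg.Agent.Nodes.NormalForm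
open Cfsg.Agent.BpExc.Tow

section RGD

variable {I W Y : Type*} [Fintype I] [DecidableEq I] [Group W] [Group Y] {M : CoxeterMatrix I}
  {cs : CoxeterSystem M W} {A : I → I → ℤ} {h : IsCartan M A} {p : ℕ} {T : Subgroup Y} {n : I → Y}
  {X : (I → ℤ) → Subgroup Y}

/-- a positive root made negative by a minimal representative -/
theorem neg_mem_NotJ {K : Set I} {w : W} (hmin : ∀ i ∈ K, 0 ≤ rep cs h w⁻¹ (sr i)) {x : I → ℤ}
    (hx : x ∈ NW cs h w) : rep cs h w x ∈ NotNJ cs h K := by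
  have hx0 : x ≠ 0 := hx.1.ne_zero
  have hneg : rep cs h w x ≤ 0 := hx.2.2
  refine ⟨(hx.1.act w).neg, neg_nonneg.2 hneg, ?_⟩
  by_contra hcon
  push Not at hcon
  set b : I → ℤ := -rep cs h w x with hb
  have hb0 : 0 ≤ b := neg_nonneg.2 hneg
  have hbK : ∀ i, i ∉ K → b i = 0 := fun i hi => le_antisymm (hcon i hi) (hb0 i)
  have h1 : rep cs h w⁻¹ b = ∑ i, b i • rep cs h w⁻¹ (sr i) := by
    have h2 : b = ∑ i, b i • (sr i : I → ℤ) := by
      funext j
      rw [Finset.sum_apply, Finset.sum_eq_single j]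
      · rw [Pi.smul_apply, sr_self, smul_eq_mul, mul_one]
      · intro i _ hi
        rw [Pi.smul_apply, sr_ne (Ne.symm hi), smul_zero]
      · intro h; exact absurd (Finset.mem_univ _) h
    conv_lhs => rw [h2]
    rw [map_sum]
    exact Finset.sum_congr rfl fun i _ => by rw [map_smul]
  have h3 : 0 ≤ rep cs h w⁻¹ b := by
    rw [h1]
    refine Finset.sum_nonneg fun i _ => ?_
    by_cases hi : i ∈ K
    · exact smul_nonneg (hb0 i) (hmin i hi)
    · rw [hbK i hi, zero_smul]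
  have h4 : rep cs h w⁻¹ b = -x := by
    rw [hb, map_neg, rep_inv_apply]
  rw [h4] at h3
  exact hx0 (le_antisymm (neg_nonneg.1 h3) hx.2.1)

variable (R : RGD cs h p T n X) [Finite W]

include R

theorem exists_left_rep {x : Y} (hx : x ∈ GG cs h T X) (J : Set I) :
    ∃ a ∈ PJ cs h T X J, ∃ b ∈ RGD.B cs h T X, ∃ w g, Rp cs R.nsys w g ∧ x = a * g * b ∧
      ∀ i ∈ J, 0 ≤ rep cs h w⁻¹ (sr i) := by
  classical
  have hex : ∃ m : ℕ, ∃ w, cs.length w = m ∧ ∃ a ∈ PJ cs h T X J, ∃ b ∈ RGD.B cs h T X, ∃ g,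
      Rp cs R.nsys w g ∧ x = a * g * b := by
    obtain ⟨w, b₁, hb₁, k, hk, b₂, hb₂, e⟩ := (mem_GG R).1 hx
    exact ⟨_, w, rfl, b₁, B_le_PJ hb₁, b₂, hb₂, k, hk, e⟩
  obtain ⟨w, hw, a, ha, b, hb, g, hg, e⟩ := Nat.find_spec hex
  have hmin := fun m hm => Nat.find_min hex (m := m) hm
  refine ⟨a, ha, b, hb, w, g, hg, e, fun i hi => ?_⟩
  refine nonneg_of_lt cs h w⁻¹ i ?_
  rw [cs.length_inv, ← cs.length_inv (w⁻¹ * cs.simple i), mul_inv_rev, inv_inv, cs.inv_simple]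
  have h1 : cs.length w ≤ cs.length (cs.simple i * w) := by
    rw [hw]
    by_contra hcon
    exact hmin _ (not_le.1 hcon) ⟨cs.simple i * w, rfl, a * (n i)⁻¹,
      mul_mem ha (inv_mem (LJ_le_PJ (n_mem_LJ R hi))), b, hb, n i * g, (rp_simple cs R.nsys i).mul hg, by rw [e]; group⟩
  have h2 := cs.length_simple_mul w i
  omega

/-- **Regular elements in parabolic subgroups.** -/
theorem exists_of_conj {K : Set I} {t y : Y} (ht : t ∈ T)
    (hreg : ∀ a, IsRoot cs h a → 0 ≤ a → ∀ x ∈ X a, t * x = x * t → x = 1) (hy : y ∈ GG cs h T X)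
    (h1 : y * t * y⁻¹ ∈ PJ cs h T X K) : ∃ a ∈ PJ cs h T X K, ∃ w k, Rp cs R.nsys w k ∧ y = a * k := by
  obtain ⟨a, ha, b, hb, w, g, hg, rfl, hmin⟩ := exists_left_rep R hy K
  obtain ⟨s, hs, u, hu, rfl⟩ := R.mem_B.1 hb
  obtain ⟨b', hb', c, hc, rfl⟩ := exists_PW_NW R w hu
  have hk : Rp cs R.nsys w (g * s) := hg.mul_mem_right hs
  have h2 : (g * s) * b' * (g * s)⁻¹ ∈ RGD.Sup X (RGD.Pos cs h) :=
    conj_mem_Sup R hk (S' := RGD.Pos cs h) (fun x hx => hx.1) (fun x hx => ⟨hx.1.act _, hx.2.2⟩) hb'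
  set k := g * s with hkd
  set a' := a * (k * b' * k⁻¹) with ha'
  have ha'P : a' ∈ PJ cs h T X K := mul_mem ha (B_le_PJ (RGD.U_le_B h2))
  have e : a * g * (s * (b' * c)) = a' * k * c := by
    rw [ha', hkd]; group
  rw [e] at h1 ⊢
  have h3 : k * (c * t * c⁻¹) * k⁻¹ ∈ PJ cs h T X K := by
    have h4 : k * (c * t * c⁻¹) * k⁻¹ = a'⁻¹ * (a' * k * c * t * (a' * k * c)⁻¹) * a' := by group
    rw [h4]
    exact mul_mem (mul_mem (inv_mem ha'P) h1) ha'P
  set c₁ := c * (t * c⁻¹ * t⁻¹) with hc₁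
  have hc₁N : c₁ ∈ RGD.Sup X (NW cs h w) := by
    refine mul_mem hc ?_
    exact (mem_normalizer_iff.1 (R.T_le_normalizer (S := NW cs h w) (fun x hx => hx.1) ht) c⁻¹).1 (inv_mem hc)
  have hkt : k * t * k⁻¹ ∈ T := (mem_normalizer_iff.1 hk.mem_normalizer t).1 ht
  have h5 : k * c₁ * k⁻¹ ∈ PJ cs h T X K := by
    have h4 : k * c₁ * k⁻¹ = k * (c * t * c⁻¹) * k⁻¹ * (k * t * k⁻¹)⁻¹ := by rw [hc₁]; group
    rw [h4]
    exact mul_mem h3 (inv_mem (B_le_PJ (RGD.T_le_B hkt)))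
  have h6 : k * c₁ * k⁻¹ ∈ VNJ cs h X K :=
    conj_mem_Sup R hk (S' := NotNJ cs h K) (fun x hx => hx.1) (fun x hx => neg_mem_NotJ hmin hx) hc₁N
  have h7 := eq_one_of_mem_VNJ_of_mem_PJ R h6 h5
  have h8 : c₁ = 1 := by
    have : c₁ = k⁻¹ * (k * c₁ * k⁻¹) * k := by group
    rw [this, h7]; group
  have h9 : t * c = c * t := by
    have h10 : c * t * c⁻¹ * t⁻¹ = 1 := by rw [← h8, hc₁]; group
    have h11 : c * t * c⁻¹ = t := mul_inv_eq_one.1 h10
    calc t * c = c * t * c⁻¹ * c := by rw [h11]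
      _ = c * t := by group
  have h12 : c ∈ RGD.Sup X (RGD.Pos cs h) ⊓ centralizer {t} :=
    ⟨(RGD.Sup_mono (S := NW cs h w) (S' := RGD.Pos cs h) fun x hx => ⟨hx.1, hx.2.1⟩) hc,
      mem_centralizer_singleton_iff.2 h9.symm⟩
  rw [centralizer_U R (Set.singleton_subset_iff.2 ht)] at h12
  have h13 : RGD.Sup (fun x => X x ⊓ centralizer {t}) (RGD.Pos cs h) ≤ ⊥ := by
    refine RGD.Sup_le fun x hx => ?_
    rintro u ⟨hu, huc⟩
    exact mem_bot.2 (hreg x hx.1 hx.2 u hu (mem_centralizer_singleton_iff.1 huc).symm)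
  have h14 : c = 1 := mem_bot.1 (h13 h12)
  exact ⟨a', ha'P, w, k, hk, by rw [h14, mul_one]⟩

/-- representatives in parabolic subgroups -/
theorem mem_WJ_of_rep {K : Set I} {w : W} {g : Y} (hg : Rp cs R.nsys w g) (h1 : g ∈ PJ cs h T X K) :
    w ∈ WJ cs K := by
  have hc : Cell R.nsys cs h X w g := ⟨1, one_mem _, g, hg, 1, one_mem _, by group⟩
  exact (cell_mem_PJ_iff R hc).1 h1

end RGD

section Lim

variable {I W Y : Type*} [Fintype I] [DecidableEq I] [Group W] [Group Y] {M : CoxeterMatrix I}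
  {cs : CoxeterSystem M W} {A : I → I → ℤ} {h : IsCartan M A} {p : ℕ}
variable {J' : Type*} [Preorder J'] {T : J' → Subgroup Y} {n : I → Y} {X : J' → (I → ℤ) → Subgroup Y}
  (H : Tow cs h p T n X) [Finite W]

theorem mono_PJ {j j' : J'} (H : Tow cs h p T n X) (hj : j ≤ j') (K : Set I) :
    PJ cs h (T j) (X j) K ≤ PJ cs h (T j') (X j') K :=
  sup_le_sup (sup_le_sup (H.monoT hj) (H.mono_Sup _ hj)) (H.mono_Sup _ hj)

theorem mono_LJ {j j' : J'} (H : Tow cs h p T n X) (hj : j ≤ j') (K : Set I) :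
    LJ cs h (T j) (X j) K ≤ LJ cs h (T j') (X j') K :=
  sup_le_sup (H.monoT hj) (H.mono_Sup _ hj)

omit [Finite W] in
theorem LJL_eq (J : Set I) : LJ cs h (TL T) (XL X) J = ⨆ j, LJ cs h (T j) (X j) J := by
  unfold LJ TL
  rw [Sup_eq, iSup_sup_eq]

include H

theorem mem_LJL {J : Set I} {y : Y} : y ∈ LJ cs h (TL T) (XL X) J ↔ ∃ j, y ∈ LJ cs h (T j) (X j) J := by
  rw [LJL_eq]
  exact H.mem_iSup fun a b hab => mono_LJ H hab J

theorem exists_of_conjL {K : Set I} {t y : Y} (ht : t ∈ TL T)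
    (hreg : ∀ a, IsRoot cs h a → 0 ≤ a → ∀ x ∈ XL X a, t * x = x * t → x = 1) (hy : y ∈ GG cs h (TL T) (XL X))
    (h1 : y * t * y⁻¹ ∈ PJ cs h (TL T) (XL X) K) :
    ∃ a ∈ PJ cs h (TL T) (XL X) K, ∃ w k, Rp cs H.nsys w k ∧ y = a * k := by
  obtain ⟨j1, h2⟩ := H.mem_TL.1 ht
  obtain ⟨j2, h3⟩ := H.mem_GG.1 hy
  obtain ⟨j3, h4⟩ := (H381.Car.mem_PJL H).1 h1
  obtain ⟨j4, a1, a2⟩ := H.dir j1 j2
  obtain ⟨j, a3, a4⟩ := H.dir j3 j4
  obtain ⟨a, ha, w, k, hk, e⟩ := exists_of_conj (H.rgd j) (K := K) (H.monoT (a1.trans a4) h2)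
    (fun a ha h0 x hx hc => hreg a ha h0 x (le_XL j a hx) hc) (H.mono_GG (a2.trans a4) h3) (mono_PJ H a3 K h4)
  exact ⟨a, (H381.Car.mem_PJL H).2 ⟨j, ha⟩, w, k, H.rp_up hk, e⟩

theorem mem_WJ_of_repL {K : Set I} {w : W} {g : Y} (hg : Rp cs H.nsys w g) (h1 : g ∈ PJ cs h (TL T) (XL X) K) :
    w ∈ WJ cs K := by
  obtain ⟨j1, h2⟩ := H.rp_down hg
  obtain ⟨j2, h3⟩ := (H381.Car.mem_PJL H).1 h1
  obtain ⟨j, a1, a2⟩ := H.dir j1 j2
  exact mem_WJ_of_rep (H.rgd j) (H.rp_mono a1 h2) (mono_PJ H a2 K h3)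

theorem rp_mem_LJL {K : Set I} {w : W} (hw : w ∈ WJ cs K) {g : Y} (hg : Rp cs H.nsys w g) :
    g ∈ LJ cs h (TL T) (XL X) K := by
  obtain ⟨j, h2⟩ := H.rp_down hg
  exact (mem_LJL H).2 ⟨j, rp_mem_LJ (H.rgd j) hw h2⟩

theorem LJL_inf_VJL {J : Set I} {y : Y} (h1 : y ∈ LJ cs h (TL T) (XL X) J) (h2 : y ∈ VJ cs h (XL X) J) : y = 1 := by
  obtain ⟨j1, h3⟩ := (mem_LJL H).1 h1
  obtain ⟨j2, h4⟩ := H.mem_Sup.1 h2
  obtain ⟨j, a1, a2⟩ := H.dir j1 j2
  exact eq_one_of_mem_LJ_of_mem_VJ (H.rgd j) (mono_LJ H a1 J h3) (H.mono_Sup _ a2 h4)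

end Lim

end Cfsg.Agent.H798.OZ
end

-- part: H798/OZ/Ell
section
/-!
# Elliptic elements of the Levi subgroups of `D.group F` (helper798, S4842)

* `exists_ell` : `w ∈ W_J` fixing no functional which is nonzero on a simple root of `J`, `t` a regular element of the
  torus of `D.group k`, `k` algebraically closed, `t^q = w t`: there is an element `s ∈ D.group F`, `|F| = q`, conjugate to
  `t` in `D.group k`, with `Ell J s`.
-/

set_option autoImplicit false
set_option linter.unusedSectionVars false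
set_option maxHeartbeats 400000

namespace Cfsg.Agent.H798.OZ

open CoxeterSystem Subgroup Cfsg Cfsg.Lie Cfsg.Lie.ChevalleyDatum
open Cfsg.Agent.ChevalleyStructure Cfsg.Agent.ChevalleyStructure.Elts Cfsg.Agent.ChevalleyStructure.CoxeterGeom
  Cfsg.Agent.ChevalleyStructure.CoxeterGeomTypes Cfsg.Agent.ChevalleyStructure.NPerm
open Cfsg.Agent.Tits.Roots Cfsg.Agent.Tits.Core Cfsg.Agent.Nodes Cfsg.Agent.Nodes.Reps Cfsg.Agent.Nodes.BNOf
  Cfsg.Agent.Nodes.RGDChev Cfsg.Agent.Nodes.Bruhat Cfsg.Agent.Nodes.StabComb Cfsg.Agent.Nodes.LeviDec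
open Cfsg.Agent.KFacts.RgdField Cfsg.Agent.KFacts.RgdChevCoord
open Cfsg.Agent.BpExc Cfsg.Agent.BpExc.TorCent Cfsg.Agent.BpExc.TorChev Cfsg.Agent.BpExc.Tow
open Cfsg.Agent.GpExc.Field Cfsg.Agent.BpExc.TowChev Cfsg.Agent.BpExc.Fr Cfsg.Agent.BpExc.LangFr
open Cfsg.Agent.H129.TorusChar Cfsg.Agent.H129.TorusMain Cfsg.Agent.H129.TorusUntw
open Cfsg.Agent.H985.VZ (Ell Free)

universe u v

theorem rp_congr {I W Y : Type*} [Fintype I] [DecidableEq I] [Group W] [Group Y] {M : CoxeterMatrix I}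
    {cs : CoxeterSystem M W} {T T' : Subgroup Y} {n : I → Y} (e : T = T') {hN : NSys M T n} {hN' : NSys M T' n}
    {w : W} {g : Y} (hg : Rp cs hN w g) : Rp cs hN' w g := by
  subst e
  exact hg

variable {D : ChevalleyDatum} {l : ℕ} {M : CoxeterMatrix (Fin l)} (hp : IsType D l M)
  {W : Type v} [Group W] (cs : CoxeterSystem M W)

section Emb

variable {F : Type u} [Field F] {k : Type u} [Field k] (f : F →+* k)

include cs in
theorem rp_emb {hF : NSys M (TT D F) (nc hp F)} {hK : NSys M (TT D k) (nc hp k)} {w : W} {g : ↥(D.group F)}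
    (hg : Rp cs hF w g) : Rp cs hK w (emb hp.inList f g) := by
  have key : ∀ ω : List (Fin l), ∃ g0, Rp cs hF (cs.wordProd ω) g0 ∧ Rp cs hK (cs.wordProd ω) (emb hp.inList f g0) := by
    intro ω
    induction ω with
    | nil =>
      refine ⟨1, ?_, ?_⟩
      · rw [wordProd_nil]; exact rp_one
      · rw [wordProd_nil, map_one]; exact rp_one
    | cons i ω ih =>
      obtain ⟨g0, h1, h2⟩ := ih
      refine ⟨nc hp F i * g0, ?_, ?_⟩
      · rw [wordProd_cons]; exact (rp_simple cs hF i).mul h1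
      · rw [wordProd_cons, map_mul, emb_nc]; exact (rp_simple cs hK i).mul h2
  obtain ⟨ω, rfl⟩ := cs.wordProd_surjective w
  obtain ⟨g0, h1, h2⟩ := key ω
  have h3 : g0⁻¹ * g ∈ TT D F := h1.unique hg
  have h4 : emb hp.inList f g = emb hp.inList f g0 * emb hp.inList f (g0⁻¹ * g) := by
    rw [← map_mul]; congr 1; group
  rw [h4]
  exact h2.mul_mem_right (emb_T hp f ⟨_, h3, rfl⟩)

theorem emb_Sup {S : Set (Fin l → ℤ)} (hS : ∀ a ∈ S, IsRoot cs hp.isCartan a) {x : ↥(D.group F)}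
    (hx : x ∈ RGD.Sup (XX D l F) S) : emb hp.inList f x ∈ RGD.Sup (XX D l k) S := by
  have h1 : RGD.Sup (XX D l F) S ≤ (RGD.Sup (XX D l k) S).comap (emb hp.inList f) :=
    RGD.Sup_le fun a ha y hy => (RGD.le_Sup ha) (emb_X hp f cs (hS a ha) ⟨y, hy, rfl⟩)
  exact h1 hx

theorem emb_VJ {J : Set (Fin l)} {x : ↥(D.group F)} (hx : x ∈ VJ cs hp.isCartan (XX D l F) J) :
    emb hp.inList f x ∈ VJ cs hp.isCartan (XX D l k) J := emb_Sup hp cs f (fun _ ha => ha.1) hx

theorem emb_LJ {J : Set (Fin l)} {x : ↥(D.group F)} (hx : x ∈ LJ cs hp.isCartan (TT D F) (XX D l F) J) :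
    emb hp.inList f x ∈ LJ cs hp.isCartan (TT D k) (XX D l k) J := by
  have h1 : LJ cs hp.isCartan (TT D F) (XX D l F) J ≤
      (LJ cs hp.isCartan (TT D k) (XX D l k) J).comap (emb hp.inList f) := by
    refine sup_le (fun y hy => ?_) (fun y hy => ?_)
    · exact (le_sup_left : TT D k ≤ LJ cs hp.isCartan (TT D k) (XX D l k) J) (emb_T hp f ⟨y, hy, rfl⟩)
    · exact (le_sup_right : RGD.Sup (XX D l k) (RootsJ cs hp.isCartan J) ≤ LJ cs hp.isCartan (TT D k) (XX D l k) J)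
        (emb_Sup hp cs f (fun _ ha => ha.1) hy)
  exact h1 hx

theorem emb_PJ {J : Set (Fin l)} {x : ↥(D.group F)} (hx : x ∈ PJ cs hp.isCartan (TT D F) (XX D l F) J) :
    emb hp.inList f x ∈ PJ cs hp.isCartan (TT D k) (XX D l k) J := by
  have h1 : PJ cs hp.isCartan (TT D F) (XX D l F) J ≤
      (PJ cs hp.isCartan (TT D k) (XX D l k) J).comap (emb hp.inList f) := by
    refine sup_le (fun y hy => ?_) (fun y hy => ?_)
    · exact LJ_le_PJ (emb_LJ hp cs f hy)
    · exact VJ_le_PJ (emb_VJ hp cs f hy)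
  exact h1 hx

end Emb

section K

variable {k : Type u} [Field k] [IsAlgClosed k] (hk : LocFin k) (p : ℕ) [Fact p.Prime] [CharP k p] [Finite W]

theorem eq_one_of_comm {t : ↥(D.group k)} (ht : t ∈ TT D k) {a : Fin l → ℤ} (ha : IsRoot cs hp.isCartan a)
    (h1 : cX hp t a ≠ 1) {x : ↥(D.group k)} (hx : x ∈ XX D l k a) (hc : t * x = x * t) : x = 1 := by
  obtain ⟨r, hr, rfl⟩ := (isRoot_iff hp cs a).1 ha
  obtain ⟨c, hc'⟩ := (LangThm.mem_XX_vec hp hr).1 hx
  have h2 : x = xc hp (vec D l r) c := Subtype.ext (by rw [coe_xc hp hr, hc'])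
  have h3 := (act hp hr ht).2 c
  rw [← h2, hc, mul_inv_cancel_right] at h3
  rw [h2] at h3
  have h4 := KFacts.RgdChevCoord.xc_inj hp hr h3
  rw [cX_vec hp ht hr] at h1
  have h5 : c = 0 := by
    have h6 : (ch hp (vec D l r) t - 1) * c = 0 := by linear_combination -h4
    exact (mul_eq_zero.1 h6).resolve_left (sub_ne_zero.2 h1)
  rw [h2, h5]
  apply Subtype.ext
  rw [coe_xc hp hr, xG_zero, Subgroup.coe_one]

include hk p in
theorem exists_of_conjK (hN : NSys M (TT D k) (nc hp k)) {K : Set (Fin l)} {t y : ↥(D.group k)} (ht : t ∈ TT D k)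
    (hreg : ∀ a, IsRoot cs hp.isCartan a → cX hp t a ≠ 1)
    (h1 : y * t * y⁻¹ ∈ PJ cs hp.isCartan (TT D k) (XX D l k) K) :
    ∃ a ∈ PJ cs hp.isCartan (TT D k) (XX D l k) K, ∃ w g, Rp cs hN w g ∧ y = a * g := by
  have H := tow hp cs hk p
  obtain ⟨a, ha, w, g, hg, e⟩ := exists_of_conjL H (K := K) (t := t) (y := y) (by rw [TL_eq hp hk]; exact ht)
    (fun a ha h0 x hx hc => eq_one_of_comm hp cs ht ha (hreg a ha) (by rwa [XL_eq hp hk] at hx) hc)
    (by rw [GG_eq_top hp cs hk]; exact Subgroup.mem_top y) (by rw [TL_eq hp hk, XL_eq hp hk]; exact h1)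
  rw [TL_eq hp hk, XL_eq hp hk] at ha
  exact ⟨a, ha, w, g, rp_congr (TL_eq hp hk) hg, e⟩

include hk p in
theorem mem_WJ_of_repK {hN : NSys M (TT D k) (nc hp k)} {K : Set (Fin l)} {w : W} {g : ↥(D.group k)}
    (hg : Rp cs hN w g) (h1 : g ∈ PJ cs hp.isCartan (TT D k) (XX D l k) K) : w ∈ WJ cs K := by
  have H := tow hp cs hk p
  refine mem_WJ_of_repL H (g := g) (rp_congr (TL_eq hp hk).symm hg) ?_
  rw [TL_eq hp hk, XL_eq hp hk]; exact h1

include hk p in
theorem rp_mem_LJK {hN : NSys M (TT D k) (nc hp k)} {K : Set (Fin l)} {w : W} (hw : w ∈ WJ cs K) {g : ↥(D.group k)}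
    (hg : Rp cs hN w g) : g ∈ LJ cs hp.isCartan (TT D k) (XX D l k) K := by
  have H := tow hp cs hk p
  have h1 := rp_mem_LJL H hw (g := g) (rp_congr (TL_eq hp hk).symm hg)
  rwa [TL_eq hp hk, XL_eq hp hk] at h1

include hk p in
theorem LJK_inf_VJK {J : Set (Fin l)} {y : ↥(D.group k)} (h1 : y ∈ LJ cs hp.isCartan (TT D k) (XX D l k) J)
    (h2 : y ∈ VJ cs hp.isCartan (XX D l k) J) : y = 1 := by
  have H := tow hp cs hk p
  refine LJL_inf_VJL H (J := J) ?_ ?_
  · rw [TL_eq hp hk, XL_eq hp hk]; exact h1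
  · rw [XL_eq hp hk]; exact h2

include hk p in
theorem PJK_conj_mem {J : Set (Fin l)} {y v : ↥(D.group k)} (h1 : y ∈ PJ cs hp.isCartan (TT D k) (XX D l k) J)
    (h2 : v ∈ VJ cs hp.isCartan (XX D l k) J) : y * v * y⁻¹ ∈ VJ cs hp.isCartan (XX D l k) J := by
  have H := tow hp cs hk p
  have h3 := H381.Car.PJL_conj_mem H (J := J) (y := y) (v := v) (by rw [TL_eq hp hk, XL_eq hp hk]; exact h1)
    (by rw [XL_eq hp hk]; exact h2)
  rwa [XL_eq hp hk] at h3

include hk p in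
theorem eq_one_of_comm_U {t : ↥(D.group k)} (ht : t ∈ TT D k) (hreg : ∀ a, IsRoot cs hp.isCartan a → cX hp t a ≠ 1)
    {z : ↥(D.group k)} (hz : z ∈ RGD.Sup (XX D l k) (RGD.Pos cs hp.isCartan)) (hc : t * z = z * t) : z = 1 := by
  have H := tow hp cs hk p
  obtain ⟨j, hj⟩ := H.mem_TL.1 (show t ∈ TL (Tj hp (k := k)) by rw [TL_eq hp hk]; exact ht)
  refine H381.Car.eq_one_of_centralizerL H (S := {t}) (j0 := j) (Set.singleton_subset_iff.2 hj)
    (fun a ha _ u hu huc => ?_) (z := z) (by rw [XL_eq hp hk]; exact hz) (mem_centralizer_singleton_iff.2 hc.symm)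
  rw [XL_eq hp hk] at hu
  exact eq_one_of_comm hp cs ht ha (hreg a ha) hu (mem_centralizer_singleton_iff.1 huc).symm

include hk in
theorem lang_LJ (hZ : Subgroup.center ↥(D.group k) = ⊥) {e : ℕ} (he : 0 < e) {σ : MulAut ↥(D.group k)}
    (hσ : IsFrob p e σ) (F : Fr cs hp.isCartan (TT D k) (XX D l k) σ (AddEquiv.refl _)) {J : Set (Fin l)}
    {m : ↥(D.group k)} (hm : m ∈ LJ cs hp.isCartan (TT D k) (XX D l k) J) :
    ∃ y ∈ LJ cs hp.isCartan (TT D k) (XX D l k) J, m = y⁻¹ * σ y := by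
  unfold LJ at hm ⊢
  set S := RootsJ cs hp.isCartan J with hS
  have hSr : ∀ a ∈ S, IsRoot cs hp.isCartan a := fun a ha => ha.1
  have hTn : TT D k ≤ normalizer (RGD.Sup (XX D l k) S : Set ↥(D.group k)) := by
    have h1 := (tow hp cs hk p (k := k)).T_le_normalizer hSr
    rwa [TL_eq hp hk, XL_eq hp hk] at h1
  obtain ⟨t, ht, x, hx, rfl⟩ := Cfsg.Agent.H18.Carter.mul_mem_of_norm' hTn hm
  have hx' : t * x * t⁻¹ ∈ RGD.Sup (XX D l k) S := (mem_normalizer_iff.1 (hTn ht) x).1 hx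
  obtain ⟨u, hu, hut⟩ := H696.GmnToral.torus_lang hp cs hk hZ he hσ F ht
  have hx2 : u * (t * x * t⁻¹) * u⁻¹ ∈ RGD.Sup (XX D l k) S := (mem_normalizer_iff.1 (hTn hu) _).1 hx'
  obtain ⟨z, hz, hzx⟩ := lang_fr hp cs he hσ F (S := S) hSr (fun _ ha => ha) hx2
  refine ⟨z * u, mul_mem (mem_sup_right hz) (mem_sup_left hu), ?_⟩
  rw [map_mul]
  calc t * x = u⁻¹ * (u * (t * x * t⁻¹) * u⁻¹) * (u * t) := by group
    _ = u⁻¹ * (z⁻¹ * σ z) * (u * t) := by rw [← hzx]
    _ = u⁻¹ * (z⁻¹ * σ z) * (u * (u⁻¹ * σ u)) := by rw [← hut]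
    _ = (z * u)⁻¹ * (σ z * σ u) := by group

end K

section Main

variable [Finite W] {F : Type u} [Field F] [Fintype F] {k : Type u} [Field k] [IsAlgClosed k] (hk : LocFin k)
  {p : ℕ} [Fact p.Prime] [CharP k p] (f : F →+* k)

theorem PJ_mono {Y : Type*} [Group Y] {T : Subgroup Y} {X : (Fin l → ℤ) → Subgroup Y} {K J : Set (Fin l)}
    (hKJ : K ⊆ J) : PJ cs hp.isCartan T X K ≤ PJ cs hp.isCartan T X J := by
  refine sup_le (sup_le ?_ (RGD.Sup_le fun a ha => ?_)) (RGD.Sup_le fun a ha => ?_)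
  · exact le_trans (le_sup_left : T ≤ LJ cs hp.isCartan T X J) LJ_le_PJ
  · have h1 : a ∈ RootsJ cs hp.isCartan J := ⟨ha.1, fun i hi => ha.2 i fun h => hi (hKJ h)⟩
    exact le_trans (X_le_LJ h1) LJ_le_PJ
  · by_cases h1 : ∃ i, i ∉ J ∧ 0 < a i
    · have h2 : a ∈ NotJ cs hp.isCartan J := ⟨ha.1, ha.2.1, h1⟩
      exact le_trans (RGD.le_Sup h2) VJ_le_PJ
    · push Not at h1
      have h2 : a ∈ RootsJ cs hp.isCartan J := ⟨ha.1, fun i hi => le_antisymm (h1 i hi) (ha.2.1 i)⟩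
      exact le_trans (X_le_LJ h2) LJ_le_PJ

include hk p in
theorem mem_PJ_of_emb [CharP F p] {J : Set (Fin l)} {x : ↥(D.group F)}
    (hx : emb hp.inList f x ∈ PJ cs hp.isCartan (TT D k) (XX D l k) J) :
    x ∈ PJ cs hp.isCartan (TT D F) (XX D l F) J := by
  have R := rgd (K := F) hp cs p
  have hG : GG cs hp.isCartan (TT D F) (XX D l F) = ⊤ := KFacts.RgdFilt.GG_eq_top (G1_eq_top (K := F) hp cs)
  obtain ⟨w, b₁, hb₁, g, hg, b₂, hb₂, rfl⟩ := (mem_GG R).1 (show x ∈ GG cs hp.isCartan (TT D F) (XX D l F) by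
    rw [hG]; exact Subgroup.mem_top x)
  have h1 : b₁ ∈ PJ cs hp.isCartan (TT D F) (XX D l F) J := B_le_PJ hb₁
  have h2 : b₂ ∈ PJ cs hp.isCartan (TT D F) (XX D l F) J := B_le_PJ hb₂
  have h3 : emb hp.inList f g ∈ PJ cs hp.isCartan (TT D k) (XX D l k) J := by
    have h4 : emb hp.inList f g = (emb hp.inList f b₁)⁻¹ * emb hp.inList f (b₁ * g * b₂) * (emb hp.inList f b₂)⁻¹ := by
      rw [map_mul, map_mul]; group
    rw [h4]
    exact mul_mem (mul_mem (inv_mem (emb_PJ hp cs f h1)) hx) (inv_mem (emb_PJ hp cs f h2))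
  have h5 : w ∈ WJ cs J :=
    mem_WJ_of_repK hp cs hk p (rp_emb hp cs f (hF := R.nsys) (hK := nsys_of_locFin hp cs hk p) hg) h3
  exact mul_mem (mul_mem h1 (LJ_le_PJ (rp_mem_LJ R h5 hg))) h2

include hk in
/-- **Elliptic elements.** -/
theorem exists_ell [CharP F p] {e : ℕ} (he : 0 < e) (hq : Fintype.card F = p ^ e)
    (hZ : Subgroup.center ↥(D.group k) = ⊥) {d : ℕ} {B : Fin l → Fin l → ℤ} (hB : InvC D l d B) (hd : d ≠ 0)
    {m : ℕ} (hm : m.Coprime d) {t : ↥(D.group k)} (ht : t ∈ TT D k) (htm : t ^ m = 1) {J : Set (Fin l)} {w : W}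
    (hwJ : w ∈ WJ cs J) (hw : ∀ x, cX hp t (rep cs hp.isCartan w x) = cX hp t x ^ p ^ e)
    (hreg : ∀ a, IsRoot cs hp.isCartan a → cX hp t a ≠ 1)
    (hell : ∀ g : (Fin l → ℤ) →+ ℤ, (∀ x, g (rep cs hp.isCartan w x) = g x) → ∀ j ∈ J, g (sr j) = 0) :
    ∃ (s : ↥(D.group F)) (z : ↥(D.group k)), emb hp.inList f s = z * t * z⁻¹ ∧
      Ell cs hp.isCartan (TT D F) (XX D l F) J s := by
  let hN : NSys M (TT D k) (nc hp k) := nsys_of_locFin hp cs hk p
  have hFr := fr_phi (k := k) (p := p) (e := e) hp cs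
  have R := rgd (K := F) hp cs p
  obtain ⟨n, hn⟩ := exists_rp cs hN w
  obtain ⟨z, hzJ, hz⟩ := lang_LJ hp cs hk p hZ he (isFrob_phi (D := D) (k := k) (p := p) (e := e)) hFr
    (rp_mem_LJK hp cs hk p hwJ hn)
  have hτ : n * phi D k p e t * n⁻¹ = t := by
    rw [tau_iff hp cs hk isFrob_phi hFr hn ht]
    intro x
    rw [theta_apply]
    exact hw x
  obtain ⟨s, hs⟩ := H130.TorEmb.mem_range_of_pow hp cs f hq hB hd hm (conj_fixed hz hτ (Subgroup.mem_zpowers t)) (by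
    rw [conj_pow, htm, mul_one, mul_inv_cancel])
  have htJ : t ∈ LJ cs hp.isCartan (TT D k) (XX D l k) J :=
    (le_sup_left : TT D k ≤ LJ cs hp.isCartan (TT D k) (XX D l k) J) ht
  have hsJ : emb hp.inList f s ∈ LJ cs hp.isCartan (TT D k) (XX D l k) J := by
    rw [hs]; exact mul_mem (mul_mem hzJ htJ) (inv_mem hzJ)
  have hmem : s ∈ LJ cs hp.isCartan (TT D F) (XX D l F) J := by
    obtain ⟨y, hy, v, hv, rfl⟩ := (mem_PJ R).1 (mem_PJ_of_emb hp cs hk (p := p) f (LJ_le_PJ hsJ))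
    have h1 : emb hp.inList f v ∈ LJ cs hp.isCartan (TT D k) (XX D l k) J := by
      have h2 : emb hp.inList f v = (emb hp.inList f y)⁻¹ * emb hp.inList f (y * v) := by rw [map_mul]; group
      rw [h2]
      exact mul_mem (inv_mem (emb_LJ hp cs f hy)) hsJ
    have h2 := LJK_inf_VJK hp cs hk p h1 (emb_VJ hp cs f hv)
    have h3 : v = 1 := emb_injective hp.inList f (by rw [h2, map_one])
    rw [h3, mul_one]; exact hy
  refine ⟨s, z, hs, ⟨hmem, fun v hv hc => ?_⟩, fun K hKJ y hy hc => ?_⟩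
  · have h1 : z⁻¹ * emb hp.inList f v * z ∈ VJ cs hp.isCartan (XX D l k) J := by
      have := PJK_conj_mem hp cs hk p (LJ_le_PJ (inv_mem hzJ)) (emb_VJ hp cs f hv)
      rwa [inv_inv] at this
    have h2 : z⁻¹ * emb hp.inList f v * z = 1 := by
      refine eq_one_of_comm_U hp cs hk p ht hreg (VJ_le_U J h1) ?_
      have h3 : emb hp.inList f s * emb hp.inList f v = emb hp.inList f v * emb hp.inList f s := by
        rw [← map_mul, hc, map_mul]
      rw [hs] at h3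
      calc t * (z⁻¹ * emb hp.inList f v * z) = z⁻¹ * (z * t * z⁻¹ * emb hp.inList f v) * z := by group
        _ = z⁻¹ * (emb hp.inList f v * (z * t * z⁻¹)) * z := by rw [h3]
        _ = _ := by group
    have h3 : emb hp.inList f v = 1 := by
      have : emb hp.inList f v = z * (z⁻¹ * emb hp.inList f v * z) * z⁻¹ := by group
      rw [this, h2]; group
    exact emb_injective hp.inList f (by rw [h3, map_one])
  · -- the elliptic property
    set y' := emb hp.inList f y * z with hy'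
    have hy'J : y' ∈ LJ cs hp.isCartan (TT D k) (XX D l k) J := mul_mem (emb_LJ hp cs f hy) hzJ
    have h1 : y' * t * y'⁻¹ ∈ PJ cs hp.isCartan (TT D k) (XX D l k) K := by
      have h2 := emb_PJ hp cs f hc
      rw [map_mul, map_mul, map_inv, hs] at h2
      have h3 : y' * t * y'⁻¹ = emb hp.inList f y * (z * t * z⁻¹) * (emb hp.inList f y)⁻¹ := by rw [hy']; group
      rw [h3]; exact h2
    obtain ⟨a, ha, x, g, hg, e1⟩ := exists_of_conjK hp cs hk p hN ht hreg h1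
    have hPP : PJ cs hp.isCartan (TT D k) (XX D l k) K ≤ PJ cs hp.isCartan (TT D k) (XX D l k) J :=
      PJ_mono hp cs hKJ.subset
    have hxJ : x ∈ WJ cs J := by
      refine mem_WJ_of_repK hp cs hk p hg ?_
      have : g = a⁻¹ * y' := by rw [e1]; group
      rw [this]
      exact mul_mem (inv_mem (hPP ha)) (LJ_le_PJ hy'J)
    -- the Frobenius
    have h2 : phi D k p e y' = y' * n := by
      rw [hy', map_mul, phi_emb hp f hq, hz]; group
    have hphiP : phi D k p e a ∈ PJ cs hp.isCartan (TT D k) (XX D l k) K := by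
      rw [phi_eq hp]; exact emb_PJ hp cs _ ha
    have hphig : Rp cs hN x (phi D k p e g) := by
      rw [phi_eq hp]; exact rp_emb hp cs _ hg
    have h3 : g * n * (phi D k p e g)⁻¹ = a⁻¹ * phi D k p e a := by
      have h4 : a * g * n = phi D k p e a * phi D k p e g := by rw [← map_mul, ← e1, h2]
      calc g * n * (phi D k p e g)⁻¹ = a⁻¹ * (a * g * n) * (phi D k p e g)⁻¹ := by group
        _ = a⁻¹ * (phi D k p e a * phi D k p e g) * (phi D k p e g)⁻¹ := by rw [h4]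
        _ = _ := by group
    have h4 : x * w * x⁻¹ ∈ WJ cs K := by
      refine mem_WJ_of_repK hp cs hk p ((hg.mul hn).mul hphig.inv) ?_
      rw [h3]
      exact mul_mem (inv_mem ha) hphiP
    -- the functional
    obtain ⟨j, hjJ, hjK⟩ := Set.exists_of_ssubset hKJ
    let g0 : (Fin l → ℤ) →+ ℤ := (Pi.evalAddMonoidHom (fun _ : Fin l => ℤ) j).comp
      (rep cs hp.isCartan x).toAddMonoidHom
    have hg0 : ∀ v, g0 v = rep cs hp.isCartan x v j := fun v => rfl
    have h5 := hell g0 (fun v => by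
      rw [hg0, hg0]
      have h6 : rep cs hp.isCartan x (rep cs hp.isCartan w v) = rep cs hp.isCartan (x * w * x⁻¹) (rep cs hp.isCartan x v) := by
        rw [← rep_mul_apply, ← rep_mul_apply]
        congr 2
        group
      rw [h6]
      exact Cfsg.Agent.Tits.RootComb.rep_apply_of_mem cs hp.isCartan h4 _ hjK)
    have h6 : g0 (rep cs hp.isCartan x⁻¹ (sr j)) = 1 := by
      rw [hg0, rep_apply_inv, sr_self]
    have h7 : g0 (rep cs hp.isCartan x⁻¹ (sr j)) = 0 := by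
      set b := rep cs hp.isCartan x⁻¹ (sr j : Fin l → ℤ) with hb
      have h8 : b = ∑ i, b i • (sr i : Fin l → ℤ) := IsMC.eq_sum_sr b
      rw [h8, map_sum]
      refine Finset.sum_eq_zero fun i _ => ?_
      rw [map_zsmul]
      by_cases hi : i ∈ J
      · rw [h5 i hi, smul_zero]
      · have h9 : b i = 0 := by
          rw [hb, Cfsg.Agent.Tits.RootComb.rep_apply_of_mem cs hp.isCartan (inv_mem hxJ) _ hi, sr_ne]
          rintro rfl
          exact hi hjJ
        rw [h9, zero_smul]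
    rw [h6] at h7
    exact one_ne_zero h7

end Main

end Cfsg.Agent.H798.OZ
end

private theorem dce_5c817e8d6771 : _root_.True := by
  try have : _root_.True := by simp only [_root_.Cfsg.Agent.H129.TorusUntw.phi.congr_simp]
  exact _root_.True.intro
end
end
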